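import Cfsg.Agent.J4Aff.Lin
import Cfsg.Agent.J4Aff.IrrData

/-!
The three linear letters are irreducible on the eleven-dimensional space.
-/

set_option autoImplicit false
set_option maxRecDepth 100000

namespace Cfsg.Agent.J4Aff

open Cfsg.Agent.DCoset Cfsg.Agent.DCoset.J4 Cfsg.Agent.CosetCert

/-- A vector is a root or comes from an earlier one by a letter. -/
noncomputable def irrB (v : Nat) : Bool :=
  Bool.rec (motive := fun _ => Bool)
    (gate (Nat.blt (irPar v) 2048) (gate (Nat.blt (irRank (irPar v)) (irRank v))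
      (gate (Nat.blt (irVia v) 3) (gate (Nat.beq (irRoot (irPar v)) (irRoot v))
        (Nat.beq (tab.act (irVia v) (irPar v)) v)))))
    (irCombo.any fun p => Nat.beq p.1 v)
    (Nat.beq (irRoot v) v)

theorem irr_ok : allFrom (fun v => irrB (v + 1)) 0 2047 = true := by decide +kernel

theorem combo_ok : irCombo.all (fun p => Nat.beq p.2.length 11 &&
    allFrom (fun k => (p.2.getD k []).all (fun v => Nat.blt v 2048 && Nat.blt 0 v &&
        Nat.beq (irRoot v) p.1) &&
      Nat.beq ((p.2.getD k []).foldl Nat.xor 0) (2 ^ k)) 0 11) = true := by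
  decide +kernel

/-- A subgroup invariant under the letters, meeting the space nontrivially, is the space. -/
theorem irreducible (N : Subgroup V) (hN : ∀ g < 3, ∀ a ∈ N, mapV g a ∈ N) {a : V} (ha : a ∈ N)
    (ha1 : a ≠ 1) : N = ⊤ := by
  classical
  have hinv : ∀ g < 4, g < 3 → ∀ b : V, mapV g b ∈ N → b ∈ N := by
    intro g hg hg3 b hb
    have hi : ivL g < 3 := by interval_cases g <;> decide
    simpa [mapV_inv hg] using hN _ hi _ hb
  have hroot : ∀ n v : Nat, irRank v = n → 1 ≤ v → v < 2048 →
      (V.mk' v ∈ N ↔ V.mk' (irRoot v) ∈ N) ∧ (∃ p ∈ irCombo, p.1 = irRoot v) := by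
    intro n
    induction n using Nat.strong_induction_on with
    | _ n ih =>
      intro v hn h1 h2
      have h : irrB v = true := by
        have h := allFrom_all irr_ok (i := v - 1) (by omega)
        rwa [Nat.sub_add_cancel h1] at h
      rw [irrB] at h
      cases hb : Nat.beq (irRoot v) v
      · rw [hb] at h
        simp only [gate_eq, Bool.and_eq_true] at h
        obtain ⟨hp, hr, hg, hrt, he⟩ := h
        have hg3 : irVia v < 3 := Nat.ble_eq.mp hg
        have hp2 : irPar v < 2048 := Nat.ble_eq.mp hp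
        have hmap : mapV (irVia v) (V.mk' (irPar v)) = V.mk' v := by
          rw [mapV, V.val_mk' hp2, Nat.eq_of_beq_eq_true he]
        have hp1 : 1 ≤ irPar v := by
          by_contra h0
          have : V.mk' v = 1 := by
            rw [← hmap, show irPar v = 0 by omega, V.mk'_zero]
            exact mul_self_cancel' hg3
          have := congrArg (fun x : V => x.val.val) this
          simp only [V.val_mk' h2, V.val_one] at this
          omega
        obtain ⟨hiff, hex⟩ := ih _ (hn ▸ Nat.ble_eq.mp hr) _ rfl hp1 hp2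
        rw [← Nat.eq_of_beq_eq_true hrt]
        refine ⟨Iff.trans ⟨fun h => hinv _ (by omega) hg3 _ (hmap.symm ▸ h),
          fun h => hmap ▸ hN _ hg3 _ h⟩ hiff, hex⟩
      · rw [hb] at h
        obtain ⟨p, hp, hpe⟩ := List.any_eq_true.1 h
        have e := Nat.eq_of_beq_eq_true hb
        rw [e]
        exact ⟨Iff.rfl, p, hp, Nat.eq_of_beq_eq_true hpe⟩
  have hval : 1 ≤ a.val.val := by
    by_contra h0
    exact ha1 (V.eq_of_val (by rw [V.val_one]; omega))
  obtain ⟨hiff, p, hp, hpe⟩ := hroot _ a.val.val rfl hval a.val.isLt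
  have hr : V.mk' p.1 ∈ N := hpe ▸ hiff.1 ((V.mk'_val a).symm ▸ ha)
  have hc := List.all_eq_true.1 combo_ok p hp
  rw [Bool.and_eq_true] at hc
  have hbasis : ∀ k < 11, V.mk' (2 ^ k) ∈ N := by
    intro k hk
    have h := allFrom_all hc.2 hk
    rw [Bool.and_eq_true] at h
    have key : ∀ (l : List Nat) (c : Nat), c < 2048 → V.mk' c ∈ N →
        l.all (fun v => Nat.blt v 2048 && Nat.blt 0 v && Nat.beq (irRoot v) p.1) = true →
        V.mk' (l.foldl Nat.xor c) ∈ N := by
      intro l
      induction l with
      | nil => intro c _ hcN _; exact hcN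
      | cons v l ih =>
        intro c hc2 hcN hl
        rw [List.all_cons, Bool.and_eq_true] at hl
        simp only [Bool.and_eq_true] at hl
        obtain ⟨⟨⟨hv2, hv0⟩, hvr⟩, hl⟩ := hl
        have hv2' : v < 2048 := Nat.ble_eq.mp hv2
        have hvN : V.mk' v ∈ N := by
          rw [(hroot _ v rfl (Nat.ble_eq.mp hv0) hv2').1, Nat.eq_of_beq_eq_true hvr]
          exact hr
        refine ih _ (Nat.xor_lt_two_pow (n := 11) hc2 hv2') ?_ (by simpa [Bool.and_eq_true] using hl)
        show V.mk' (c ^^^ v) ∈ N
        rw [V.mk'_xor hc2 hv2']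
        exact N.mul_mem hcN hvN
    have := key _ 0 (by norm_num) N.one_mem h.1
    rwa [Nat.eq_of_beq_eq_true h.2] at this
  rw [eq_top_iff]
  rintro b -
  have h := V.hom_bitProd (MonoidHom.id V) 11 le_rfl b.val.val b.val.isLt
  rw [MonoidHom.id_apply, V.mk'_val] at h
  rw [h]
  have : ∀ n ≤ 11, V.bitProd (fun i => MonoidHom.id V (V.mk' (2 ^ i))) n b.val.val ∈ N := by
    intro n hn
    induction n with
    | zero => exact N.one_mem
    | succ n ih =>
      rw [V.bitProd]
      refine N.mul_mem ?_ (ih (by omega))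
      split
      · exact hbasis n (by omega)
      · exact N.one_mem
  exact this 11 le_rfl
where
  mul_self_cancel' {g : Nat} (hg : g < 3) : mapV g 1 = 1 := by
    have h := mapV_mul hg 1 1
    rwa [one_mul, left_eq_mul] at h

end Cfsg.Agent.J4Aff
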