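import Cfsg.Agent.DCoset.PermModel
import Cfsg.Agent.J4Aff.Irr
import Cfsg.Agent.J4Aff.Chain
import Cfsg.Agent.J4M24.Main

/-!
The affine group `2 ^ 11 : M24` as a model for double cosets: letters `x`, `y`, `y⁻¹` and the
translation by `1135` on the `2048` vectors.
-/

set_option autoImplicit false
set_option maxRecDepth 100000

namespace Cfsg.Agent.J4Aff

open Cfsg.Agent.DCoset Cfsg.Agent.DCoset.J4 Cfsg.Agent.CosetCert

/-- The group of the code on `x`, `y` acting on the vectors. -/
noncomputable def lam : J4M24.Q →* MulAut V := PresentedGroup.toGroup gen_rels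

theorem lam_of (b : Fin 2) : lam (PresentedGroup.of b) = genAut b := PresentedGroup.toGroup.of gen_rels

theorem q_simple : IsSimpleGroup J4M24.Q := by
  obtain ⟨e⟩ := J4M24.q_equiv_m24
  have : IsSimpleGroup Cfsg.M24 := Compute.isSimpleGroup_m24
  exact e.isSimpleGroup

theorem q_card : Nat.card J4M24.Q = 244823040 := by
  obtain ⟨e⟩ := J4M24.q_equiv_m24
  rw [Nat.card_congr e.toEquiv, Compute.card_m24]

theorem q_finite : Finite J4M24.Q := J4M24.card_Q.1

theorem aut_x_moves : genAut 0 ≠ 1 := by
  intro h
  have hb : (List.range 11).any (fun i => !(Nat.beq (tab.act 0 (2 ^ i)) (2 ^ i))) = true := by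
    decide +kernel
  obtain ⟨i, hi, he⟩ := List.any_eq_true.1 hb
  rw [List.mem_range] at hi
  have h2 : 2 ^ i < 2048 := by
    calc 2 ^ i ≤ 2 ^ 10 := Nat.pow_le_pow_right (by norm_num) (by omega)
      _ < 2048 := by norm_num
  have e := congrArg (fun f : MulAut V => (f⁻¹ (V.mk' (2 ^ i))).val.val) h
  simp only [inv_one, MulAut.one_apply, genAut, aut_symm, mapV, V.val_mk' h2, Fin.val_zero,
    V.val_mk' (act_lt (show (0 : Nat) < 4 by norm_num) h2)] at e
  rw [e] at he
  simp at he

theorem lam_injective : Function.Injective lam := by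
  rw [← MonoidHom.ker_eq_bot_iff]
  have := q_simple
  rcases lam.normal_ker.eq_bot_or_eq_top with h | h
  · exact h
  · exfalso
    refine aut_x_moves ?_
    rw [← lam_of, ← MonoidHom.mem_ker, h]
    exact Subgroup.mem_top _

/-- The affine group. -/
abbrev QAff : Type := SemidirectProduct V J4M24.Q lam

theorem qaff_finite : Finite QAff :=
  have := q_finite
  Finite.of_equiv _ SemidirectProduct.equivProd.symm

theorem qaff_card : Nat.card QAff = 501397585920 := by
  rw [Nat.card_congr SemidirectProduct.equivProd, Nat.card_prod, V.card, q_card]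

/-- An element as a permutation of the vectors. -/
noncomputable def affPerm (a : QAff) : Equiv.Perm V :=
  (lam a.right).toEquiv.trans (Equiv.mulLeft a.left)

/-- The action on the numbers below `2048`. -/
noncomputable def rho : QAff →* Equiv.Perm (Fin 2048) :=
  MonoidHom.mk' (fun a => V.equivFin.permCongr (affPerm a)) fun a b => by
    ext p : 1
    simp [affPerm, SemidirectProduct.mul_left, SemidirectProduct.mul_right, map_mul, mul_assoc]

theorem rho_apply (a : QAff) (p : Fin 2048) :
    (rho a p).val = (a.left * lam a.right (V.mk p)).val.val := rfl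

/-- The translation. -/
def uV : V := V.mk' 1135

/-- The letters. -/
noncomputable def qAff : Nat → QAff
  | 0 => SemidirectProduct.inr (PresentedGroup.of 0)
  | 1 => SemidirectProduct.inr (PresentedGroup.of 1)
  | 2 => SemidirectProduct.inr (PresentedGroup.of 1)⁻¹
  | _ => SemidirectProduct.inl uV

theorem act_symm (g : Nat) (hg : g < 4) (p : Fin 2048) :
    rho (qAff g) ⟨tab.act g p.val, act_lt hg p.isLt⟩ = p := by
  apply Fin.ext
  rw [rho_apply]
  have hv : (⟨⟨tab.act g p.val, act_lt hg p.isLt⟩⟩ : V) = mapV g ⟨p⟩ := by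
    rw [mapV]
    exact V.eq_of_val (V.val_mk' (act_lt hg p.isLt)).symm
  rw [show V.mk (⟨tab.act g p.val, act_lt hg p.isLt⟩ : Fin 2048) = mapV g ⟨p⟩ from hv]
  interval_cases g
  · rw [qAff, SemidirectProduct.left_inr, SemidirectProduct.right_inr, one_mul, lam_of,
      ← aut_symm ⟨0, by norm_num⟩]
    show (genAut 0 ((genAut 0)⁻¹ _)).val.val = _
    rw [MulAut.apply_inv_self]
  · rw [qAff, SemidirectProduct.left_inr, SemidirectProduct.right_inr, one_mul, lam_of,
      ← aut_symm ⟨1, by norm_num⟩]
    show (genAut 1 ((genAut 1)⁻¹ _)).val.val = _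
    rw [MulAut.apply_inv_self]
  · rw [qAff, SemidirectProduct.left_inr, SemidirectProduct.right_inr, one_mul, map_inv, lam_of,
      genAut, aut_symm]
    show (mapV 1 (mapV 2 ⟨p⟩)).val.val = _
    rw [show (1 : Nat) = ivL 2 from rfl, mapV_inv (by norm_num)]
  · rw [qAff, SemidirectProduct.left_inl, SemidirectProduct.right_inl, map_one, MulAut.one_apply,
      V.val_mul, uV, V.val_mk' (by norm_num), mapV, V.val_mk' (act_lt (by norm_num) p.isLt),
      act_shift p.isLt, Nat.xor_comm p.val, ← Nat.xor_assoc, Nat.xor_self, Nat.zero_xor]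
    all_goals norm_num

/-- The base points. -/
def bpt (l : Nat) : Fin 2048 := Fin.ofNat 2048 ([0, 2, 5, 72].getD l 0)

theorem acts : Acts rho tab qAff bpt where
  small := by norm_num
  act_eq g hg p := by
    change g < 4 at hg
    have e := act_symm g hg p
    exact congrArg Fin.val (show (⟨tab.act g p.val, act_lt hg p.isLt⟩ : Fin 2048) = (rho (qAff g))⁻¹ p by
      conv_rhs => rw [← e]
      exact (Equiv.symm_apply_apply (rho (qAff g)) _).symm)
  act_lt := tab_act_lt
  base_eq := by decide +kernel

theorem chain_gen : allFrom (fun l => allFrom (QModel.checkGen tab qChain l) 0 (qChain.nGen l)) 0 4 = true := by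
  decide +kernel

theorem chain_pt : allFrom (fun l => allFrom (QModel.checkPt tab qChain l) 0 (qChain.size l)) 0 4 = true := by
  decide +kernel

theorem chain_prod : ((List.range tab.k).map qChain.size).prod = 501397585920 := by decide +kernel

theorem rho_faithful : ∀ a : QAff, (∀ l, l < tab.k → (rho a)⁻¹ (bpt l) = bpt l) → a = 1 :=
  have := qaff_finite
  acts.faithful qChain qaff_card.le chain_prod
    (fun _ _ hl ha => allFrom_all (allFrom_all chain_gen hl) ha)
    (fun _ _ hl hm => allFrom_all (allFrom_all chain_pt hl) hm)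

/-- The model. -/
noncomputable def model : QModel QAff := acts.toQModel rho_faithful

theorem closure_letters :
    Subgroup.closure ({SemidirectProduct.inr (PresentedGroup.of 0),
      SemidirectProduct.inr (PresentedGroup.of 1), SemidirectProduct.inl uV} : Set QAff) = ⊤ := by
  set S := Subgroup.closure ({SemidirectProduct.inr (PresentedGroup.of 0),
      SemidirectProduct.inr (PresentedGroup.of 1), SemidirectProduct.inl uV} : Set QAff) with hS
  have hr : ∀ q : J4M24.Q, (SemidirectProduct.inr q : QAff) ∈ S := by
    intro q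
    have : (⊤ : Subgroup J4M24.Q) ≤ S.comap SemidirectProduct.inr := by
      rw [← PresentedGroup.closure_range_of, Subgroup.closure_le]
      rintro _ ⟨b, rfl⟩
      refine Subgroup.subset_closure ?_
      fin_cases b <;> simp
    exact this (Subgroup.mem_top q)
  have hu : uV ∈ S.comap (SemidirectProduct.inl (φ := lam)) := Subgroup.subset_closure (by simp)
  have huv : uV ≠ 1 := by decide +kernel
  have hN : S.comap (SemidirectProduct.inl (φ := lam)) = ⊤ := by
    refine irreducible _ (fun g hg a ha => ?_) hu huv
    have key : ∀ q : J4M24.Q, lam q a ∈ S.comap (SemidirectProduct.inl (φ := lam)) := by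
      intro q
      rw [Subgroup.mem_comap, SemidirectProduct.inl_aut]
      exact S.mul_mem (S.mul_mem (hr q) ha) (hr _)
    interval_cases g
    · have := key (PresentedGroup.of 0)⁻¹
      rwa [map_inv, lam_of, genAut, aut_symm] at this
    · have := key (PresentedGroup.of 1)⁻¹
      rwa [map_inv, lam_of, genAut, aut_symm] at this
    · have := key (PresentedGroup.of 1)
      rwa [lam_of, genAut, aut_apply] at this
  rw [eq_top_iff]
  intro a _
  rw [← SemidirectProduct.inl_left_mul_inr_right a]
  exact S.mul_mem (Subgroup.mem_comap.1 (hN ▸ Subgroup.mem_top a.left)) (hr _)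

theorem model_gens : Subgroup.closure {x | ∃ g, g < model.nL ∧ x = model.q g} = ⊤ := by
  rw [eq_top_iff, ← closure_letters]
  refine Subgroup.closure_mono ?_
  rintro _ (rfl | rfl | rfl)
  · exact ⟨0, show 0 < 4 by norm_num, rfl⟩
  · exact ⟨1, show 1 < 4 by norm_num, rfl⟩
  · exact ⟨3, show 3 < 4 by norm_num, rfl⟩

end Cfsg.Agent.J4Aff
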