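import Mathlib

/-!
The elementary abelian group of order `2 ^ 11` on the numbers below `2048`.
-/

set_option autoImplicit false

namespace Cfsg.Agent.J4Aff

/-- Eleven bits, added modulo two. -/
@[ext]
structure V where
  /-- the number -/
  val : Fin 2048
  deriving DecidableEq

namespace V

/-- The vector of a number. -/
def mk' (n : Nat) : V := ⟨Fin.ofNat 2048 n⟩

theorem val_mk' {n : Nat} (h : n < 2048) : (mk' n).val.val = n := Nat.mod_eq_of_lt h

theorem mk'_val (v : V) : mk' v.val.val = v := V.ext (Fin.ext (Nat.mod_eq_of_lt v.val.isLt))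

theorem eq_of_val {a b : V} (h : a.val.val = b.val.val) : a = b := V.ext (Fin.ext h)

instance : Mul V :=
  ⟨fun a b => ⟨⟨a.val.val ^^^ b.val.val, Nat.xor_lt_two_pow (n := 11) a.val.isLt b.val.isLt⟩⟩⟩

instance : One V := ⟨⟨0⟩⟩

instance : Inv V := ⟨id⟩

theorem val_mul (a b : V) : (a * b).val.val = a.val.val ^^^ b.val.val := rfl

theorem val_one : (1 : V).val.val = 0 := rfl

instance : CommGroup V where
  mul_assoc a b c := eq_of_val (by simp only [val_mul]; exact Nat.xor_assoc _ _ _)
  one_mul a := eq_of_val (by simp [val_mul, val_one])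
  mul_one a := eq_of_val (by simp [val_mul, val_one])
  inv_mul_cancel a := eq_of_val (by rw [val_mul, val_one]; exact Nat.xor_self _)
  mul_comm a b := eq_of_val (by simp only [val_mul]; exact Nat.xor_comm _ _)

theorem mul_self (a : V) : a * a = 1 := inv_mul_cancel a

theorem mk'_xor {a b : Nat} (ha : a < 2048) (hb : b < 2048) : mk' (a ^^^ b) = mk' a * mk' b :=
  eq_of_val (by rw [val_mul, val_mk' ha, val_mk' hb, val_mk' (Nat.xor_lt_two_pow (n := 11) ha hb)])

theorem mk'_zero : mk' 0 = 1 := rfl

/-- The vectors as the numbers below `2048`. -/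
def equivFin : V ≃ Fin 2048 := ⟨V.val, V.mk, fun _ => rfl, fun _ => rfl⟩

instance : Finite V := Finite.of_equiv _ equivFin.symm

theorem card : Nat.card V = 2048 := by rw [Nat.card_congr equivFin, Nat.card_fin]

section Lift

variable {G : Type*} [Group G]

/-- The product of the values on the bits below `n`. -/
def bitProd (e : Nat → G) : Nat → Nat → G
  | 0, _ => 1
  | n + 1, v => (if v.testBit n then e n else 1) * bitProd e n v

theorem bitProd_commute (e : Nat → G) {n : Nat} {g : G} (h : ∀ i < n, Commute g (e i)) (v : Nat) :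
    Commute g (bitProd e n v) := by
  induction n with
  | zero => exact Commute.one_right g
  | succ n ih =>
    refine Commute.mul_right ?_ (ih fun i hi => h i (by omega))
    split
    · exact h n (by omega)
    · exact Commute.one_right g

theorem bitProd_xor (e : Nat → G) : ∀ n : Nat, (∀ i < n, e i * e i = 1) →
    (∀ i < n, ∀ j < n, Commute (e i) (e j)) → ∀ a b : Nat,
    bitProd e n (a ^^^ b) = bitProd e n a * bitProd e n b
  | 0, _, _, _, _ => by simp [bitProd]
  | n + 1, hs, hc, a, b => by
    have ih := bitProd_xor e n (fun i hi => hs i (by omega))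
      (fun i hi j hj => hc i (by omega) j (by omega)) a b
    have hn := hs n (by omega)
    have h1 : Commute (e n) (bitProd e n a) :=
      bitProd_commute e (fun i hi => hc n (by omega) i (by omega)) a
    simp only [bitProd, Nat.testBit_xor, ih]
    cases a.testBit n <;> cases b.testBit n
    · simp
    · simp only [Bool.false_bne, if_true, Bool.false_eq_true, if_false, one_mul]
      rw [← mul_assoc, ← mul_assoc, h1.eq]
    · simp [mul_assoc]
    · simp only [bne_self_eq_false, Bool.false_eq_true, if_false, if_true, one_mul]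
      calc bitProd e n a * bitProd e n b = e n * e n * bitProd e n a * bitProd e n b := by
            rw [hn, one_mul]
        _ = e n * (bitProd e n a * e n) * bitProd e n b := by rw [← h1.eq]; simp only [mul_assoc]
        _ = _ := by simp only [mul_assoc]

theorem bitProd_two_pow (e : Nat → G) : ∀ n k : Nat,
    bitProd e n (2 ^ k) = if k < n then e k else 1
  | 0, k => by simp [bitProd]
  | n + 1, k => by
    rw [bitProd, bitProd_two_pow e n k, Nat.testBit_two_pow]
    rcases Nat.lt_trichotomy k n with h | rfl | h
    · simp [h.ne, h, Nat.lt_succ_of_lt h]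
    · simp
    · simp [h.ne', not_lt_of_gt h, show ¬ k < n + 1 by omega]

/-- The homomorphism with given commuting involutions as images of the eleven basis vectors. -/
def lift (e : Nat → G) (hs : ∀ i < 11, e i * e i = 1)
    (hc : ∀ i < 11, ∀ j < 11, Commute (e i) (e j)) : V →* G :=
  MonoidHom.mk' (fun v => bitProd e 11 v.val.val) fun a b => by
    rw [val_mul]
    exact bitProd_xor e 11 hs hc _ _

theorem lift_basis (e : Nat → G) (hs : ∀ i < 11, e i * e i = 1)
    (hc : ∀ i < 11, ∀ j < 11, Commute (e i) (e j)) {k : Nat} (hk : k < 11) :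
    lift e hs hc (mk' (2 ^ k)) = e k := by
  show bitProd e 11 (mk' (2 ^ k)).val.val = _
  rw [val_mk' (by calc 2 ^ k ≤ 2 ^ 10 := Nat.pow_le_pow_right (by norm_num) (by omega)
                     _ < 2048 := by norm_num), bitProd_two_pow, if_pos hk]

theorem bitProd_congr {e e' : Nat → G} : ∀ n : Nat, (∀ i < n, e i = e' i) → ∀ v,
    bitProd e n v = bitProd e' n v
  | 0, _, _ => rfl
  | n + 1, h, v => by
    rw [bitProd, bitProd, bitProd_congr n (fun i hi => h i (by omega)) v, h n (by omega)]

theorem hom_bitProd (f : V →* G) : ∀ (n : Nat), n ≤ 11 → ∀ v : Nat, v < 2 ^ n →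
    f (mk' v) = bitProd (fun i => f (mk' (2 ^ i))) n v
  | 0, _, v, hv => by
    rw [Nat.pow_zero, Nat.lt_one_iff] at hv
    rw [hv, mk'_zero, map_one]
    rfl
  | n + 1, hn, v, hv => by
    have h2 : 2 ^ n < 2048 := by
      calc 2 ^ n ≤ 2 ^ 10 := Nat.pow_le_pow_right (by norm_num) (by omega)
        _ < 2048 := by norm_num
    have h3 : 2 ^ (n + 1) ≤ 2048 := by
      calc 2 ^ (n + 1) ≤ 2 ^ 11 := Nat.pow_le_pow_right (by norm_num) (by omega)
        _ = 2048 := by norm_num
    rw [bitProd]
    by_cases hb : v.testBit n = true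
    · have hlt : 2 ^ n ^^^ v < 2 ^ n := by
        apply Nat.lt_pow_two_of_testBit
        intro i hi
        rw [Nat.testBit_xor, Nat.testBit_two_pow]
        rcases eq_or_lt_of_le hi with rfl | h
        · simp [hb]
        · rw [Nat.testBit_lt_two_pow (lt_of_lt_of_le hv (Nat.pow_le_pow_right (by norm_num) h))]
          simp [h.ne]
      have e1 : mk' v = mk' (2 ^ n) * mk' (2 ^ n ^^^ v) := by
        rw [← mk'_xor h2 (hlt.trans h2), ← Nat.xor_assoc, Nat.xor_self, Nat.zero_xor]
      rw [e1, map_mul, hom_bitProd f n (by omega) _ hlt, if_pos hb]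
      congr 1
      have : ∀ m ≤ n, bitProd (fun i => f (mk' (2 ^ i))) m (2 ^ n ^^^ v) =
          bitProd (fun i => f (mk' (2 ^ i))) m v := by
        intro m hm
        induction m with
        | zero => rfl
        | succ m ih =>
          rw [bitProd, bitProd, ih (by omega), Nat.testBit_xor, Nat.testBit_two_pow]
          simp [show n ≠ m by omega]
      exact this n le_rfl
    · have hlt : v < 2 ^ n := by
        apply Nat.lt_pow_two_of_testBit
        intro i hi
        rcases eq_or_lt_of_le hi with rfl | h
        · simpa using hb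
        · exact Nat.testBit_lt_two_pow (lt_of_lt_of_le hv (Nat.pow_le_pow_right (by norm_num) h))
      rw [hom_bitProd f n (by omega) _ hlt, if_neg hb, one_mul]

/-- A homomorphism is determined by the eleven basis vectors. -/
theorem hom_ext {f g : V →* G} (h : ∀ k < 11, f (mk' (2 ^ k)) = g (mk' (2 ^ k))) : f = g := by
  ext v
  rw [← mk'_val v, hom_bitProd f 11 le_rfl _ (by exact v.val.isLt),
    hom_bitProd g 11 le_rfl _ (by exact v.val.isLt)]
  exact bitProd_congr 11 h _

end Lift

end V

end Cfsg.Agent.J4Aff
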