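import Cfsg.Agent.DCoset.J4.Table
import Cfsg.Agent.DCoset.Count
import Cfsg.Agent.CosetCert.J4M24Q.Main
import Cfsg.Agent.J4Aff.Vec

/-!
The letters `x`, `y`, `y⁻¹` act linearly and satisfy the seven relators.
-/

set_option autoImplicit false
set_option maxRecDepth 100000

namespace Cfsg.Agent.J4Aff

open Cfsg.Agent.DCoset Cfsg.Agent.DCoset.J4 Cfsg.Agent.CosetCert

/-- The inverse letters. -/
def ivL (g : Nat) : Nat := [0, 2, 1, 3].getD g 0

theorem ivL_lt : ∀ g : Fin 4, ivL g.val < 4 := by decide +kernel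

theorem ivL_ivL : ∀ g : Fin 4, ivL (ivL g.val) = g.val := by decide +kernel

/-- The sum of the chosen images of the basis vectors. -/
noncomputable def xorSel (c : Nat → Nat) (n v : Nat) : Nat :=
  Nat.rec (motive := fun _ => Nat) 0
    (fun i ih => Nat.xor (Bool.rec (motive := fun _ => Nat) 0 (c i) (v.testBit i)) ih) n

theorem linear_ok : allFrom (fun g => allFrom
    (fun v => Nat.beq (tab.act g v) (xorSel (fun i => tab.act g (2 ^ i)) 11 v)) 0 2048) 0 3 = true := by
  decide +kernel

theorem perm_ok : allFrom (fun g => allFrom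
    (fun v => gate (Nat.blt (tab.act g v) 2048) (Nat.beq (tab.act (ivL g) (tab.act g v)) v)) 0 2048) 0 4
      = true := by
  decide +kernel

theorem shift_ok : allFrom (fun v => Nat.beq (tab.act 3 v) (Nat.xor v 1135)) 0 2048 = true := by
  decide +kernel

theorem act_lt {g v : Nat} (hg : g < 4) (hv : v < 2048) : tab.act g v < 2048 := by
  have h := allFrom_all (allFrom_all perm_ok hg) hv
  simp only [gate_eq, Bool.and_eq_true] at h
  exact Nat.ble_eq.mp h.1

theorem act_inv {g v : Nat} (hg : g < 4) (hv : v < 2048) : tab.act (ivL g) (tab.act g v) = v := by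
  have h := allFrom_all (allFrom_all perm_ok hg) hv
  simp only [gate_eq, Bool.and_eq_true] at h
  exact Nat.eq_of_beq_eq_true h.2

theorem act_shift {v : Nat} (hv : v < 2048) : tab.act 3 v = v ^^^ 1135 :=
  Nat.eq_of_beq_eq_true (allFrom_all shift_ok hv)

/-- A letter as a map of vectors. -/
noncomputable def mapV (g : Nat) (a : V) : V := V.mk' (tab.act g a.val.val)

theorem xorSel_bitProd (c : Nat → Nat) : ∀ n : Nat, (∀ i < n, c i < 2048) → ∀ v,
    xorSel c n v < 2048 ∧ V.mk' (xorSel c n v) = V.bitProd (fun i => V.mk' (c i)) n v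
  | 0, _, _ => ⟨by norm_num [xorSel], rfl⟩
  | n + 1, h, v => by
    obtain ⟨hlt, he⟩ := xorSel_bitProd c n (fun i hi => h i (by omega)) v
    have hs : xorSel c (n + 1) v = (if v.testBit n then c n else 0) ^^^ xorSel c n v := by
      show Nat.xor (Bool.rec (motive := fun _ => Nat) 0 (c n) (v.testBit n)) (xorSel c n v) = _
      cases v.testBit n <;> rfl
    have hc : (if v.testBit n then c n else 0) < 2048 := by
      split
      · exact h n (by omega)
      · norm_num
    refine ⟨hs ▸ Nat.xor_lt_two_pow (n := 11) hc hlt, ?_⟩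
    rw [hs, V.mk'_xor hc hlt, he, V.bitProd]
    congr 1
    split <;> rfl

theorem mapV_mul {g : Nat} (hg : g < 3) (a b : V) : mapV g (a * b) = mapV g a * mapV g b := by
  have key : ∀ v : V, mapV g v = V.bitProd (fun i => V.mk' (tab.act g (2 ^ i))) 11 v.val.val := by
    intro v
    rw [mapV, Nat.eq_of_beq_eq_true (allFrom_all (allFrom_all linear_ok hg) v.val.isLt)]
    refine (xorSel_bitProd _ 11 (fun i hi => act_lt (by omega) ?_) _).2
    calc 2 ^ i ≤ 2 ^ 10 := Nat.pow_le_pow_right (by norm_num) (by omega)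
      _ < 2048 := by norm_num
  rw [key, key, key, V.val_mul]
  exact V.bitProd_xor _ 11 (fun _ _ => V.mul_self _) (fun _ _ _ _ => Commute.all _ _) _ _

theorem mapV_inv {g : Nat} (hg : g < 4) (a : V) : mapV (ivL g) (mapV g a) = a := by
  rw [mapV, mapV, V.val_mk' (act_lt hg a.val.isLt), act_inv hg a.val.isLt, V.mk'_val]

/-- The linear letters as automorphisms: the inverse of the table. -/
noncomputable def aut (g : Fin 3) : MulAut V :=
  { toFun := mapV (ivL g.val)
    invFun := mapV g.val
    left_inv := fun a => by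
      have h := mapV_inv (ivL_lt ⟨g.val, by omega⟩) a
      rwa [ivL_ivL ⟨g.val, by omega⟩] at h
    right_inv := fun a => mapV_inv (by omega) a
    map_mul' := by
      intro a b
      fin_cases g <;> exact mapV_mul (by decide) a b }

theorem aut_apply (g : Fin 3) (a : V) : aut g a = mapV (ivL g.val) a := rfl

theorem aut_symm (g : Fin 3) (a : V) : (aut g)⁻¹ a = mapV g.val a := rfl

/-- A signed generator as a letter. -/
def letOf : Fin 2 × Bool → Nat
  | (0, _) => 0
  | (1, true) => 1
  | (1, false) => 2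

/-- The image of a vector under the table of a word. -/
noncomputable def goV (w : List (Fin 2 × Bool)) (v : Nat) : Nat :=
  List.rec (motive := fun _ => Nat → Nat) (fun v => v)
    (fun a _ ih v => ih (tab.act (letOf a) v)) w v

theorem rels_fix : J4M24Q.relWords.all (fun w =>
    allFrom (fun i => Nat.beq (goV w (2 ^ i)) (2 ^ i)) 0 11) = true := by
  decide +kernel

/-- The image of a generator. -/
noncomputable def genAut (b : Fin 2) : MulAut V := aut ⟨b.val, by omega⟩

theorem genAut_x_inv : (genAut 0)⁻¹ = genAut 0 :=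
  MulEquiv.ext fun a => rfl

theorem letter_symm (a : Fin 2 × Bool) (v : V) :
    (bif a.2 then genAut a.1 else (genAut a.1)⁻¹)⁻¹ v = mapV (letOf a) v := by
  obtain ⟨b, _ | _⟩ := a <;> fin_cases b
  · show ((genAut 0)⁻¹)⁻¹ v = _
    rw [inv_inv]; rfl
  · show ((genAut 1)⁻¹)⁻¹ v = _
    rw [inv_inv]; rfl
  · rfl
  · rfl

theorem word_symm (w : List (Fin 2 × Bool)) : ∀ v : V,
    ((w.map fun a => bif a.2 then genAut a.1 else (genAut a.1)⁻¹).prod)⁻¹ v =
      V.mk' (goV w v.val.val) := by
  induction w with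
  | nil => intro v; simp [goV, V.mk'_val]
  | cons a w ih =>
    intro v
    rw [List.map_cons, List.prod_cons, mul_inv_rev, MulAut.mul_apply, letter_symm, ih, mapV,
      V.val_mk' (act_lt (g := letOf a) (by obtain ⟨b, _ | _⟩ := a <;> fin_cases b <;> decide) v.val.isLt)]
    rfl

theorem gen_rels : ∀ r ∈ wordRels J4M24Q.relWords, FreeGroup.lift genAut r = 1 := by
  intro r hr
  obtain ⟨w, hw, rfl⟩ := List.mem_map.1 hr
  rw [FreeGroup.lift_mk, ← inv_eq_one]
  refine MulEquiv.toMonoidHom_injective (V.hom_ext fun k hk => ?_)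
  rw [MulEquiv.coe_toMonoidHom, word_symm, V.val_mk'
    (by calc 2 ^ k ≤ 2 ^ 10 := Nat.pow_le_pow_right (by norm_num) (by omega)
          _ < 2048 := by norm_num),
    Nat.eq_of_beq_eq_true (allFrom_all (List.all_eq_true.1 rels_fix w hw) hk)]
  rfl

end Cfsg.Agent.J4Aff
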