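import Cfsg.Agent.J4Aff.Affine
import Cfsg.Agent.J4Lower.Index
import Cfsg.Agent.IndexSimpleSplit
import Cfsg.Prelude.Def_Sporadic

/-!
The subgroup `2 ^ 11 : M24` of the presented J4, given its normal subgroup, and simplicity from
its index.

The representation in dimension 112 is faithful, and no central element is left: for each prime
divisor of the index an element known there does not commute with `x`.
-/

set_option autoImplicit false
set_option maxRecDepth 100000

namespace Cfsg.Agent.J4Aff

open Cfsg.Agent.CosetCert Cfsg.Spor Subgroup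

/-- The presented group. -/
abbrev J : Type := Cfsg.Spor.J4

theorem equiv_all (iota : J4M24.Q →* J) (phi : V →* J)
    (hequiv : ∀ b e, phi (genAut b e) =
      iota (PresentedGroup.of b) * phi e * (iota (PresentedGroup.of b))⁻¹) :
    ∀ q, phi.comp (lam q).toMonoidHom = (MulAut.conj (iota q)).toMonoidHom.comp phi := by
  let S : Subgroup J4M24.Q :=
    { carrier := {q | ∀ e, phi (lam q e) = iota q * phi e * (iota q)⁻¹}
      one_mem' := fun e => by simp
      mul_mem' := fun {p q} hp hq e => by
        rw [map_mul, MulAut.mul_apply, hp, hq, map_mul]; group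
      inv_mem' := fun {q} hq e => by
        have h := hq ((lam q⁻¹) e)
        rw [map_inv, MulAut.apply_inv_self] at h
        rw [map_inv, h, map_inv]; group }
  have hS : (⊤ : Subgroup J4M24.Q) ≤ S := by
    rw [← PresentedGroup.closure_range_of, closure_le]
    rintro _ ⟨b, rfl⟩ e
    rw [lam_of]
    exact hequiv b e
  exact fun q => MonoidHom.ext fun e => hS (mem_top q) e

/-- The map of the affine group. -/
noncomputable def iotaOf (iota : J4M24.Q →* J) (phi : V →* J)
    (hequiv : ∀ b e, phi (genAut b e) =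
      iota (PresentedGroup.of b) * phi e * (iota (PresentedGroup.of b))⁻¹) : QAff →* J :=
  SemidirectProduct.lift phi iota (equiv_all iota phi hequiv)

section Map

variable (iota : J4M24.Q →* J) (phi : V →* J)
  (hequiv : ∀ b e, phi (genAut b e) =
    iota (PresentedGroup.of b) * phi e * (iota (PresentedGroup.of b))⁻¹)

theorem iotaOf_inl (e : V) : iotaOf iota phi hequiv (SemidirectProduct.inl e) = phi e :=
  SemidirectProduct.lift_inl _ _ _ _

theorem iotaOf_inr (q : J4M24.Q) : iotaOf iota phi hequiv (SemidirectProduct.inr q) = iota q :=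
  SemidirectProduct.lift_inr _ _ _ _

theorem range_eq (hiota : ∀ b, iota (PresentedGroup.of b) = PresentedGroup.of (J4M24.jGen b)) :
    (iotaOf iota phi hequiv).range =
      closure {(PresentedGroup.of J4.Gen.x : J), PresentedGroup.of J4.Gen.y, phi uV} := by
  rw [MonoidHom.range_eq_map, ← closure_letters, MonoidHom.map_closure]
  simp only [Set.image_insert_eq, Set.image_singleton, iotaOf_inr, iotaOf_inl, hiota]
  rfl

theorem injective (hu : phi uV ≠ 1) : Function.Injective (iotaOf iota phi hequiv) := by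
  set f := iotaOf iota phi hequiv
  have hN : f.ker.comap (SemidirectProduct.inl (φ := lam)) = ⊥ := by
    refine (eq_bot_iff_forall _).2 fun a ha => ?_
    by_contra ha1
    have key : ∀ (q : J4M24.Q), ∀ e ∈ f.ker.comap (SemidirectProduct.inl (φ := lam)),
        lam q e ∈ f.ker.comap (SemidirectProduct.inl (φ := lam)) := fun q e he => by
      rw [mem_comap, SemidirectProduct.inl_aut, map_inv]
      exact f.normal_ker.conj_mem _ he _
    have htop := irreducible _ (fun g hg e he => ?_) ha ha1
    · refine hu ?_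
      have h : uV ∈ f.ker.comap (SemidirectProduct.inl (φ := lam)) := htop ▸ mem_top _
      rw [mem_comap, MonoidHom.mem_ker] at h
      exact (iotaOf_inl iota phi hequiv uV).symm.trans h
    · interval_cases g
      · have := key (PresentedGroup.of 0)⁻¹ e he
        rwa [map_inv, lam_of, genAut, aut_symm] at this
      · have := key (PresentedGroup.of 1)⁻¹ e he
        rwa [map_inv, lam_of, genAut, aut_symm] at this
      · have := key (PresentedGroup.of 1) e he
        rwa [lam_of, genAut, aut_apply] at this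
  rw [← MonoidHom.ker_eq_bot_iff]
  refine (eq_bot_iff_forall _).2 fun k hk => ?_
  have hfix : lam k.right = 1 := MulEquiv.ext fun e => by
    have h : k * SemidirectProduct.inl e * k⁻¹ * (SemidirectProduct.inl e : QAff)⁻¹ ∈ f.ker := by
      rw [show k * SemidirectProduct.inl e * k⁻¹ * (SemidirectProduct.inl e : QAff)⁻¹ =
        k * (SemidirectProduct.inl e * k⁻¹ * (SemidirectProduct.inl e : QAff)⁻¹) by group]
      exact f.ker.mul_mem hk (f.normal_ker.conj_mem _ (f.ker.inv_mem hk) _)
    have he : k * SemidirectProduct.inl e * k⁻¹ * (SemidirectProduct.inl e : QAff)⁻¹ =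
        SemidirectProduct.inl (lam k.right e * e⁻¹) := by
      conv_lhs => rw [← SemidirectProduct.inl_left_mul_inr_right k]
      rw [map_mul, map_inv, SemidirectProduct.inl_aut]
      have hc : Commute (SemidirectProduct.inl k.left : QAff)
          (SemidirectProduct.inr k.right * SemidirectProduct.inl e * SemidirectProduct.inr k.right⁻¹) := by
        rw [← SemidirectProduct.inl_aut, commute_iff_eq, ← map_mul, ← map_mul, mul_comm]
      have hh := hc.eq
      rw [mul_inv_rev]
      simp only [map_inv] at hh ⊢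
      calc _ = (SemidirectProduct.inl k.left * (SemidirectProduct.inr k.right *
              SemidirectProduct.inl e * (SemidirectProduct.inr k.right)⁻¹)) *
            (SemidirectProduct.inl k.left)⁻¹ * (SemidirectProduct.inl e)⁻¹ := by group
        _ = _ := by rw [hh]; group
    rw [he, ← mem_comap, hN, mem_bot, mul_inv_eq_one] at h
    exact h
  have hr : k.right = 1 := lam_injective (by rw [hfix, map_one])
  have hk' : k.left ∈ f.ker.comap (SemidirectProduct.inl (φ := lam)) := by
    rw [mem_comap]
    rwa [← SemidirectProduct.inl_left_mul_inr_right k, hr, map_one, mul_one] at hk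
  rw [hN, mem_bot] at hk'
  rw [← SemidirectProduct.inl_left_mul_inr_right k, hr, hk', map_one, map_one, mul_one]

theorem card_range (hu : phi uV ≠ 1) :
    Nat.card (iotaOf iota phi hequiv).range = 501397585920 := by
  rw [← Nat.card_congr (MonoidHom.ofInjective (injective iota phi hequiv hu)).toEquiv, qaff_card]

end Map

theorem range_dvd : 29 * 31 * 37 * 43 * 11 ^ 3 ∣ Nat.card J4Rep.rho.range := by
  have : Fact (Nat.Prime 29) := ⟨by norm_num⟩
  have : Fact (Nat.Prime 31) := ⟨by norm_num⟩
  have : Fact (Nat.Prime 37) := ⟨by norm_num⟩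
  have : Fact (Nat.Prime 43) := ⟨by norm_num⟩
  refine Nat.Coprime.mul_dvd_of_dvd_of_dvd (by norm_num) ?_ J4Lower.eleven_cube_dvd
  refine Nat.Coprime.mul_dvd_of_dvd_of_dvd (by norm_num) ?_
    (J4Lower.prime_dvd 43 (by simp) J4Lower.g43_pow_ok)
  refine Nat.Coprime.mul_dvd_of_dvd_of_dvd (by norm_num) ?_
    (J4Lower.prime_dvd 37 (by simp) J4Lower.g37_pow_ok)
  exact Nat.Coprime.mul_dvd_of_dvd_of_dvd (by norm_num)
    (J4Lower.prime_dvd 29 (by simp) J4Lower.g29_pow_ok)
    (J4Lower.prime_dvd 31 (by simp) J4Lower.g31_pow_ok)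

theorem noncomm : ([J4Lower.zW, J4Lower.g29, J4Lower.g31, J4Lower.g37, J4Lower.g43].all fun w =>
    !(Nat.beq (J4Rep.run J4Rep.mat (J4Lower.invW w ++ J4Lower.invW [(J4.Gen.x, true)] ++ w ++
      [(J4.Gen.x, true)]) 1) 1)) = true := by
  decide +kernel

/-- The known elements do not commute with `x`. -/
theorem not_central {w : List (J4.Gen × Bool)}
    (hw : w ∈ [J4Lower.zW, J4Lower.g29, J4Lower.g31, J4Lower.g37, J4Lower.g43]) :
    J4Lower.im w ∉ center J4Rep.rho.range := by
  intro h
  have hm := List.all_eq_true.1 noncomm w hw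
  refine J4Lower.im_ne_one (v := 1) (by norm_num) (by simpa using hm) ?_
  rw [J4Lower.im_append, J4Lower.im_append, J4Lower.im_append, J4Lower.im_invW, J4Lower.im_invW]
  have hc := mem_center_iff.1 h (J4Lower.im [(J4.Gen.x, true)])
  calc _ = (J4Lower.im w)⁻¹ * ((J4Lower.im [(J4.Gen.x, true)])⁻¹ *
        (J4Lower.im w * J4Lower.im [(J4.Gen.x, true)])) := by group
    _ = _ := by rw [← hc]; group

/-- Every element of the centre is trivial, given the order and faithfulness. -/
theorem no_central (hinj : Function.Injective J4Rep.rho) (hcard : Nat.card J = 173067389 * 501397585920)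
    (z : J) (hz : ∀ g : J, g * z = z * g) {r : ℕ} (hr : r.Prime) (hzr : orderOf z = r)
    (hdvd : r ∣ 173067389) : False := by
  have : Finite J := Nat.finite_of_card_ne_zero (by rw [hcard]; norm_num)
  haveI := Fact.mk hr
  let zK : J4Rep.rho.range := ⟨J4Rep.rho z, z, rfl⟩
  let C : Subgroup J4Rep.rho.range := zpowers zK
  have hzK : zK ∈ center J4Rep.rho.range := by
    rw [mem_center_iff]
    rintro ⟨_, g, rfl⟩
    exact Subtype.ext (by simp only [Subgroup.coe_mul, zK, ← map_mul, hz])
  have hCc : C ≤ center J4Rep.rho.range := zpowers_le.2 hzK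
  have : C.Normal := ⟨fun n hn g => by
    rw [mem_center_iff.1 (hCc hn) g, mul_inv_cancel_right]; exact hn⟩
  have hCcard : Nat.card C = r := by
    rw [Nat.card_zpowers, ← Subgroup.orderOf_coe]
    exact (orderOf_injective J4Rep.rho hinj z).trans hzr
  have hK : Nat.card (J4Rep.rho.range ⧸ C) * r = 173067389 * 501397585920 := by
    rw [← hCcard, ← card_eq_card_quotient_mul_card_subgroup, ← hcard,
      ← Nat.card_congr (MonoidHom.ofInjective hinj).toEquiv]
  have hπ : ∀ {w}, w ∈ [J4Lower.zW, J4Lower.g29, J4Lower.g31, J4Lower.g37, J4Lower.g43] →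
      QuotientGroup.mk' C (J4Lower.im w) ≠ 1 := fun hw h =>
    not_central hw (hCc ((QuotientGroup.eq_one_iff _).1 h))
  have key : ∀ {w}, w ∈ [J4Lower.zW, J4Lower.g29, J4Lower.g31, J4Lower.g37, J4Lower.g43] →
      J4Rep.idB J4Rep.mat 112 (J4Lower.powW r w) = true → r * r ∣ 173067389 * 501397585920 := by
    intro w hw hp
    rw [← hK]
    refine Nat.mul_dvd_mul_right ?_ r
    have ho : orderOf (QuotientGroup.mk' C (J4Lower.im w)) = r := orderOf_eq_prime (by
      rw [← map_pow, ← J4Lower.im_powW, J4Lower.im_eq_one hp, map_one]) (hπ hw)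
    exact ho ▸ orderOf_dvd_natCard _
  have hcases : r = 11 ∨ r = 29 ∨ r = 31 ∨ r = 37 ∨ r = 43 := by
    rw [show (173067389 : ℕ) = 11 * 11 * 29 * 31 * 37 * 43 by norm_num] at hdvd
    have e : ∀ {p : ℕ}, p.Prime → r ∣ p → r = p := fun hp h => (Nat.prime_dvd_prime_iff_eq hr hp).1 h
    rcases hr.dvd_mul.1 hdvd with h | h
    · rcases hr.dvd_mul.1 h with h | h
      · rcases hr.dvd_mul.1 h with h | h
        · rcases hr.dvd_mul.1 h with h | h
          · rcases hr.dvd_mul.1 h with h | h <;> exact Or.inl (e (by norm_num) h)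
          · exact Or.inr (Or.inl (e (by norm_num) h))
        · exact Or.inr (Or.inr (Or.inl (e (by norm_num) h)))
      · exact Or.inr (Or.inr (Or.inr (Or.inl (e (by norm_num) h))))
    · exact Or.inr (Or.inr (Or.inr (Or.inr (e (by norm_num) h))))
  rcases hcases with rfl | rfl | rfl | rfl | rfl
  · have h3 := J4Lower.pow_three_dvd 11 (QuotientGroup.mk' C (J4Lower.im J4Lower.zW))
      (QuotientGroup.mk' C (J4Lower.im J4Lower.aW)) (QuotientGroup.mk' C (J4Lower.im J4Lower.bW)) 8
      (by norm_num) (by rw [← map_pow, ← J4Lower.im_powW, J4Lower.im_eq_one J4Lower.z_pow_ok, map_one])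
      (hπ (by simp))
      (by rw [← map_pow, ← J4Lower.im_powW, J4Lower.im_eq_one J4Lower.a_pow_ok, map_one])
      (by rw [← map_pow, ← J4Lower.im_powW, J4Lower.im_eq_one J4Lower.b_pow_ok, map_one])
      (by rw [← map_mul, ← map_mul, (J4Lower.comm_of J4Lower.za_ok).symm])
      (by rw [← map_mul, ← map_mul, (J4Lower.comm_of J4Lower.zb_ok).symm])
      (by rw [← map_mul, ← map_mul, ← map_pow, ← map_mul, J4Lower.ab_eq])
    have h4 : 11 ^ 3 * 11 ∣ 173067389 * 501397585920 := hK ▸ Nat.mul_dvd_mul_right h3 11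
    norm_num at h4
  · have := key (by simp) J4Lower.g29_pow_ok
    norm_num at this
  · have := key (by simp) J4Lower.g31_pow_ok
    norm_num at this
  · have := key (by simp) J4Lower.g37_pow_ok
    norm_num at this
  · have := key (by simp) J4Lower.g43_pow_ok
    norm_num at this

theorem pow_mk_words (w : List (Fin 2 × Bool)) : ∀ n : ℕ,
    FreeGroup.mk (List.replicate n w).flatten = FreeGroup.mk w ^ n
  | 0 => by rw [pow_zero, List.replicate_zero, List.flatten_nil]; rfl
  | n + 1 => by
    rw [List.replicate_succ, List.flatten_cons, ← FreeGroup.mul_mk, pow_mk_words w n, pow_succ']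

/-- An element moving some vector other than by a translation lies outside `2 ^ 11`. -/
theorem right_ne_one (a : QAff) (p : Fin 2048)
    (h : ((rho a)⁻¹ p).val ≠ p.val ^^^ ((rho a)⁻¹ 0).val) : a.right ≠ 1 := by
  intro ha
  have e : ∀ q : Fin 2048, ((rho a)⁻¹ q).val = a.left.val.val ^^^ q.val := fun q => by
    rw [← map_inv, rho_apply, SemidirectProduct.inv_left, SemidirectProduct.inv_right, ha, inv_one,
      map_one, MulAut.one_apply, MulAut.one_apply, V.val_mul]
    rfl
  refine h ?_
  rw [e, e, Fin.val_zero, Nat.xor_zero, Nat.xor_comm]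

/-- The same for a word in the letters. -/
theorem valW_right_ne_one {n w : ℕ} (hl : Cfsg.Agent.DCoset.lettersBelow 4 n w = true) {p : ℕ}
    (hp : p < 2048)
    (h : Nat.beq (Cfsg.Agent.DCoset.foldW Cfsg.Agent.DCoset.J4.tab.act n w p)
      (p ^^^ Cfsg.Agent.DCoset.foldW Cfsg.Agent.DCoset.J4.tab.act n w 0) = false) :
    (Cfsg.Agent.DCoset.valW qAff n w).right ≠ 1 := by
  refine right_ne_one _ ⟨p, hp⟩ fun e => Bool.false_ne_true (h.symm.trans ?_)
  rw [← acts.foldW_eq n w ⟨p, hp⟩ hl] at e
  rw [← acts.foldW_eq n w (0 : Fin 2048) hl, Fin.val_zero] at e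
  exact Nat.beq_eq.mpr e

theorem xy23_mem : (List.replicate 23 [((0 : Fin 2), true), (1, true)]).flatten ∈ J4M24Q.relWords := by
  decide +kernel

theorem xy_moves :
    (List.range 11).any (fun i => !(Nat.beq (goV [(0, true), (1, true)] (2 ^ i)) (2 ^ i))) = true := by
  decide +kernel

theorem xy_order :
    orderOf (PresentedGroup.of 0 * PresentedGroup.of 1 : J4M24.Q) = 23 := by
  have : Fact (Nat.Prime 23) := ⟨by norm_num⟩
  refine orderOf_eq_prime ?_ ?_
  · have h : PresentedGroup.mk (wordRels J4M24Q.relWords)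
        (FreeGroup.mk (List.replicate 23 [((0 : Fin 2), true), (1, true)]).flatten) = 1 :=
      PresentedGroup.one_of_mem (List.mem_map_of_mem xy23_mem)
    rw [pow_mk_words, map_pow] at h
    exact h
  · intro h
    obtain ⟨i, hi, he⟩ := List.any_eq_true.1 xy_moves
    rw [List.mem_range] at hi
    have h2 : 2 ^ i < 2048 := by
      calc 2 ^ i ≤ 2 ^ 10 := Nat.pow_le_pow_right (by norm_num) (by omega)
        _ < 2048 := by norm_num
    have hh : (([((0 : Fin 2), true), (1, true)].map fun a =>
        bif a.2 then genAut a.1 else (genAut a.1)⁻¹).prod) = 1 := by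
      simp only [List.map_cons, List.map_nil, List.prod_cons, List.prod_nil, mul_one, cond_true,
        ← lam_of, ← map_mul, h, map_one]
    have e := word_symm [((0 : Fin 2), true), (1, true)] (V.mk' (2 ^ i))
    rw [hh, inv_one, MulAut.one_apply, V.val_mk' h2] at e
    have hlt : goV [((0 : Fin 2), true), (1, true)] (2 ^ i) < 2048 :=
      act_lt (by decide) (act_lt (by decide) h2)
    have e' := congrArg (fun a : V => a.val.val) e
    simp only [V.val_mk' h2, V.val_mk' hlt] at e'
    rw [← e'] at he
    simp at he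

/-- The presented J4 is simple of the order of Janko's fourth group, given the normal subgroup
of `2 ^ 11 : M24`, the index, and an element conjugating some vector out of that normal subgroup. -/
theorem isJ4_of (iota : J4M24.Q →* J)
    (hiota : ∀ b, iota (PresentedGroup.of b) = PresentedGroup.of (J4M24.jGen b)) (phi : V →* J)
    (hequiv : ∀ b e, phi (genAut b e) =
      iota (PresentedGroup.of b) * phi e * (iota (PresentedGroup.of b))⁻¹)
    (hu : phi uV ≠ 1) (hidx : (iotaOf iota phi hequiv).range.index = 173067389)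
    (hmix : ∃ (g : J) (e : V) (a : QAff),
      g * phi e * g⁻¹ = iotaOf iota phi hequiv a ∧ a.right ≠ 1) :
    Cfsg.IsJ4 J := by
  set f := iotaOf iota phi hequiv with hf
  set H := f.range with hH
  have hinj := injective iota phi hequiv hu
  have hHcard := card_range iota phi hequiv hu
  have hcard : Nat.card J = 173067389 * 501397585920 := by
    rw [← index_mul_card H, hidx, hHcard]
  have : Finite J := Nat.finite_of_card_ne_zero (by rw [hcard]; norm_num)
  have hphi : Function.Injective phi := fun a b h =>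
    SemidirectProduct.inl_injective (hinj (by rw [iotaOf_inl, iotaOf_inl, h]))
  have hiotainj : Function.Injective iota := fun a b h =>
    SemidirectProduct.inr_injective (hinj (by rw [iotaOf_inr, iotaOf_inr, h]))
  have hMsimple : IsSimpleGroup iota.range :=
    have := q_simple
    (MonoidHom.ofInjective hiotainj).symm.isSimpleGroup
  have hAH : phi.range ≤ H := by
    rintro _ ⟨e, rfl⟩; exact ⟨SemidirectProduct.inl e, iotaOf_inl iota phi hequiv e⟩
  have hMH : iota.range ≤ H := by
    rintro _ ⟨q, rfl⟩; exact ⟨SemidirectProduct.inr q, iotaOf_inr iota phi hequiv q⟩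
  have hsplit : ∀ a : QAff, f a = phi a.left * iota a.right := fun a => by
    conv_lhs => rw [← SemidirectProduct.inl_left_mul_inr_right a]
    rw [map_mul, hf, iotaOf_inl, iotaOf_inr]
  have hconj : ∀ (a : QAff) (e : V), f a * phi e * (f a)⁻¹ = phi (lam a.right e) := by
    intro a e
    have h : iota a.right * phi e * (iota a.right)⁻¹ = phi (lam a.right e) :=
      (DFunLike.congr_fun (equiv_all iota phi hequiv a.right) e).symm
    have hcm : phi a.left * phi (lam a.right e) = phi (lam a.right e) * phi a.left := by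
      rw [← map_mul, ← map_mul, mul_comm]
    rw [hsplit, mul_inv_rev,
      show phi a.left * iota a.right * phi e * ((iota a.right)⁻¹ * (phi a.left)⁻¹) =
        phi a.left * (iota a.right * phi e * (iota a.right)⁻¹) * (phi a.left)⁻¹ by group,
      h, hcm, mul_inv_cancel_right]
  have hnorm : H ≤ normalizer (phi.range : Set J) := by
    rintro _ ⟨a, rfl⟩
    refine mem_normalizer_iff.2 fun m => ⟨?_, ?_⟩
    · rintro ⟨e, rfl⟩
      exact ⟨_, (hconj a e).symm⟩
    · rintro ⟨e, he⟩
      refine ⟨lam a⁻¹.right e, ?_⟩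
      rw [← hconj, he, map_inv]; group
  have hgen : ∀ N : Subgroup J, N.Normal → iota.range ≤ N → N = ⊤ := by
    intro N hN hle
    let ψ : FreeGroup J4.Gen →* J ⧸ N :=
      (QuotientGroup.mk' N).comp (PresentedGroup.mk _)
    have hxy : ∀ b, ψ (FreeGroup.of (J4M24.jGen b)) = 1 := fun b =>
      (QuotientGroup.eq_one_iff _).2 (hle ⟨_, hiota b⟩)
    have hx : ψ J4.x = 1 := hxy 0
    have hy : ψ J4.y = 1 := hxy 1
    have h2 : ψ (J4.t ^ 2) = 1 := by
      rw [show ψ (J4.t ^ 2) = QuotientGroup.mk' N (PresentedGroup.mk _ (J4.t ^ 2)) from rfl,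
        PresentedGroup.one_of_mem (Or.inr (show J4.t ^ 2 ∈ J4.extra by simp [J4.extra])), map_one]
    have h3 : ψ ((J4.y * ((J4.y * J4.x * (J4.y⁻¹) * J4.x * J4.y * J4.x * (J4.y⁻¹) * J4.x)⁻¹ * J4.t *
        (J4.y * J4.x * (J4.y⁻¹) * J4.x * J4.y * J4.x * (J4.y⁻¹) * J4.x))) ^ 3) = 1 := by
      rw [MonoidHom.comp_apply, PresentedGroup.one_of_mem (Or.inr (by simp [J4.extra])), map_one]
    simp only [map_pow, map_mul, map_inv, hx, hy, one_mul, mul_one, inv_one] at h2 h3
    have ht : ψ J4.t = 1 := by
      rw [show (3 : ℕ) = 2 + 1 from rfl, pow_succ, h2, one_mul] at h3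
      exact h3
    rw [eq_top_iff, ← PresentedGroup.closure_range_of, closure_le]
    rintro _ ⟨g, rfl⟩
    refine (QuotientGroup.eq_one_iff _).1 ?_
    cases g
    · exact hx
    · exact hy
    · exact ht
  have hclose : ∀ N : Subgroup J, N.Normal → N ⊓ H ≠ ⊥ → N = ⊤ := by
    refine IndexSimple.normal_eq_top_of_split H phi.range iota.range hAH hnorm ?_ ?_ hMH ?_ ?_ ?_ hgen
    · rintro _ ⟨a, rfl⟩ _ ⟨b, rfl⟩
      rw [← map_mul, ← map_mul, mul_comm]
    · rintro _ ⟨a, rfl⟩
      exact ⟨_, ⟨a.left, rfl⟩, _, ⟨a.right, rfl⟩, hsplit a⟩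
    · by_contra hno
      push Not at hno
      refine aut_x_moves (MulEquiv.ext fun e => hphi ?_)
      rw [hequiv, hno _ ⟨PresentedGroup.of 0, rfl⟩ _ ⟨e, rfl⟩, mul_inv_cancel_right]
      rfl
    · rintro _ ⟨e, rfl⟩ he
      set S := closure {y | ∃ m ∈ iota.range, y = m * phi e * m⁻¹}
      have hS : ∀ q : J4M24.Q, ∀ s ∈ S, iota q * s * (iota q)⁻¹ ∈ S := by
        intro q s hs
        induction hs using closure_induction with
        | mem y hy =>
          obtain ⟨m, hm, rfl⟩ := hy
          refine subset_closure ⟨iota q * m, mul_mem ⟨q, rfl⟩ hm, ?_⟩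
          group
        | one => simp
        | mul y y' _ _ h h' => rw [conj_mul.symm]; exact S.mul_mem h h'
        | inv y _ h => rw [← conj_inv]; exact S.inv_mem h
      have hinv : ∀ (q : J4M24.Q), ∀ v ∈ S.comap phi, lam q v ∈ S.comap phi := fun q v hv => by
        rw [mem_comap]
        have hq : phi (lam q v) = iota q * phi v * (iota q)⁻¹ :=
          DFunLike.congr_fun (equiv_all iota phi hequiv q) v
        rw [hq]
        exact hS q _ hv
      have hmem : e ∈ S.comap phi :=
        subset_closure ⟨1, one_mem _, by simp⟩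
      have he1 : e ≠ 1 := fun h => he (by rw [h, map_one])
      have htop := irreducible _ (fun g hg v hv => ?_) hmem he1
      · rintro _ ⟨v, rfl⟩
        exact mem_comap.1 (htop ▸ mem_top v)
      · interval_cases g
        · have := hinv (PresentedGroup.of 0)⁻¹ v hv
          rwa [map_inv, lam_of, genAut, aut_symm] at this
        · have := hinv (PresentedGroup.of 1)⁻¹ v hv
          rwa [map_inv, lam_of, genAut, aut_symm] at this
        · have := hinv (PresentedGroup.of 1) v hv
          rwa [lam_of, genAut, aut_apply] at this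
    · obtain ⟨g, e, a, he, ha⟩ := hmix
      refine ⟨g, phi e, ⟨e, rfl⟩, he ▸ ⟨a, rfl⟩, ?_⟩
      rintro ⟨v, hv⟩
      refine ha ?_
      have h : f (SemidirectProduct.inl v) = f a := (iotaOf_inl iota phi hequiv v).trans (hv.trans he)
      rw [← hinj h, SemidirectProduct.right_inl]
  have hrho : Function.Injective J4Rep.rho := by
    rw [← MonoidHom.ker_eq_bot_iff]
    by_contra hne
    have hbot : J4Rep.rho.ker ⊓ H = ⊥ := by
      by_contra hK
      refine J4Rep.genPerm_x_ne_one ?_
      have h : (PresentedGroup.of J4.Gen.x : J) ∈ J4Rep.rho.ker :=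
        hclose _ J4Rep.rho.normal_ker hK ▸ mem_top _
      rwa [MonoidHom.mem_ker, J4Rep.rho_of] at h
    have h1 := IndexSimple.card_dvd_index_of_inf_eq_bot H _ hbot
    rw [hidx] at h1
    have h2 : 29 * 31 * 37 * 43 * 11 ^ 3 * Nat.card J4Rep.rho.ker ∣
        173067389 * 11 * 45581598720 := by
      rw [show (173067389 : ℕ) * 11 * 45581598720 = 173067389 * 501397585920 by norm_num, ← hcard,
        card_eq_card_quotient_mul_card_subgroup J4Rep.rho.ker,
        Nat.card_congr (QuotientGroup.quotientKerEquivRange J4Rep.rho).toEquiv]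
      exact Nat.mul_dvd_mul_right range_dvd _
    rw [show (173067389 : ℕ) * 11 = 29 * 31 * 37 * 43 * 11 ^ 3 by norm_num] at h2
    have h3 : Nat.card J4Rep.rho.ker ∣ 45581598720 := Nat.dvd_of_mul_dvd_mul_left (by norm_num) h2
    have h4 := Nat.dvd_gcd h1 h3
    norm_num at h4
    exact hne (eq_bot_of_card_eq _ h4)
  refine ⟨?_, by rw [hcard]⟩
  have hH1 : H ≠ ⊥ := fun h => by
    change Nat.card H = _ at hHcard
    rw [h, card_bot] at hHcard
    norm_num at hHcard
  haveI : Nontrivial J := by
    obtain ⟨x, hx⟩ := (ne_bot_iff_exists_ne_one).1 hH1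
    exact ⟨⟨x, 1, fun h => hx (Subtype.ext h)⟩⟩
  refine ⟨fun N hN => ?_⟩
  by_cases hNH : N ⊓ H = ⊥
  swap
  · exact Or.inr (hclose N hN hNH)
  refine Or.inl ?_
  have : Fact (Nat.Prime 23) := ⟨by norm_num⟩
  have hd := IndexSimple.card_dvd_index_of_inf_eq_bot H N hNH
  rw [hidx] at hd
  set h := iota (PresentedGroup.of 0 * PresentedGroup.of 1) with hh
  have hord : orderOf h = 23 := by rw [hh, orderOf_injective iota hiotainj, xy_order]
  have hc : h ∈ centralizer (N : Set J) := by
    refine IndexSimple.mem_centralizer_of_prime_pow N h 23 hord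
      (fun h23 => absurd (h23.trans hd) (by norm_num)) fun r k hr hk hrk => ?_
    have hrd : r ∣ 173067389 := ((dvd_pow_self r hk.ne').trans hrk).trans hd
    have hrk' : r ^ k ∣ 173067389 := hrk.trans hd
    rw [show (173067389 : ℕ) = 11 * 11 * 29 * 31 * 37 * 43 by norm_num] at hrd
    have e : ∀ {p : ℕ}, p.Prime → r ∣ p → r = p := fun hp h => (Nat.prime_dvd_prime_iff_eq hr hp).1 h
    have hk2 : ∀ {p m : ℕ}, r = p → ¬ p ^ (m + 1) ∣ 173067389 → k ≤ m := fun hp hm => by
      by_contra hlt
      exact hm ((pow_dvd_pow _ (by omega)).trans (hp ▸ hrk'))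
    simp only [hr.dvd_mul] at hrd
    rcases hrd with ((((h | h) | h) | h) | h) | h
    all_goals first
      | (obtain rfl := e (by norm_num) h
         have hk' := hk2 (m := 2) rfl (by norm_num)
         interval_cases k <;> norm_num at *)
  have htop : centralizer (N : Set J) = ⊤ := hclose _ inferInstance fun he => by
    have hmem : h ∈ centralizer (N : Set J) ⊓ H :=
      ⟨hc, hMH ⟨_, rfl⟩⟩
    rw [he, mem_bot] at hmem
    rw [hmem, orderOf_one] at hord
    norm_num at hord
  by_contra hne
  have hN1 : Nat.card N ≠ 1 := fun h1 => hne (eq_bot_of_card_eq _ h1)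
  obtain ⟨r, hr, hrN⟩ := Nat.exists_prime_and_dvd hN1
  haveI := Fact.mk hr
  obtain ⟨⟨z, hz⟩, hzo⟩ := exists_prime_orderOf_dvd_card' r hrN
  rw [← Subgroup.orderOf_coe] at hzo
  refine no_central hrho hcard z (fun g => ?_) hr hzo (hrN.trans hd)
  have hg : g ∈ centralizer (N : Set J) := htop ▸ mem_top g
  exact (mem_centralizer_iff.1 hg z hz).symm

end Cfsg.Agent.J4Aff
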